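import Cfsg.Agent.H566.Two.FiRank
import Cfsg.Agent.H672.SporIM.RankRows
import Cfsg.Agent.H651.Two.Row

/-!
# `Fi₂₂`: two characters of degree divisible by `p` (helper566)

The rank three action of degree 14080 gives the degrees 429 and 13650.
-/

set_option autoImplicit false
set_option maxRecDepth 100000

namespace Cfsg.Agent.H566.Two

open Cfsg Cfsg.Agent.H672.SporIM Cfsg.Agent.H651.Two Cfsg.Agent.H596.OneFacts Cfsg.Agent.H653.Sieve

universe u

/-- **the degrees 429 and 13650 of `Fi₂₂`** -/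
theorem fi22_degrees {K : Type u} [Group K] (h : Spor.IsoFi22 K) : HasDeg K 13650 ∧ HasDeg K 429 := by
  have hc := Cfsg.Agent.NotCT.Orders.fi22 (K := Spor.Fi22) ⟨MulEquiv.refl _⟩
  have : Finite Spor.Fi22 := Nat.finite_of_card_ne_zero (by rw [hc]; norm_num)
  obtain ⟨e⟩ := h
  obtain ⟨x, hx, hd⟩ := degrees_of_index BM.Fi22O.O (k := 3159) (l := 10920) BM.Fi22O.main.1 FiRank.exists_orbits
    (by norm_num) (by norm_num) (by norm_num)
    hc rfl (P := 485707622400) (by norm_num) [(2, 5), (3, 3), (5, 1), (13, 1)] [2, 7, 11]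
    (by simp only [List.forall_mem_cons]; norm_num)
    (by simp only [List.forall_mem_cons]; norm_num) (by decide) (by norm_num) (Or.inl (by decide)) [(13650, 429)]
    (by decide +kernel)
  rw [List.mem_singleton] at hx
  subst hx
  exact ⟨hd.1.of_equiv e, hd.2.of_equiv e⟩

theorem fi22_two {K : Type u} [Group K] (h : Spor.IsoFi22 K) {p : ℕ} (hp : p.Prime) (hd : p ∣ Nat.card K) :
    Two p K := by
  obtain ⟨h1, h2⟩ := fi22_degrees h
  have hc := Cfsg.Agent.NotCT.Orders.fi22 h
  have h3 := prime_mem (L := [(2, 17), (3, 9), (5, 2), (7, 1), (11, 1), (13, 1)]) hp (by decide +kernel)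
    (show facProd _ = 64561751654400 by decide +kernel) (hc ▸ hd)
  simp only [List.map_cons, List.map_nil, List.mem_cons, List.not_mem_nil, or_false] at h3
  rcases h3 with rfl | rfl | rfl | rfl | rfl | rfl
  · rcases fi22 h with ⟨h4, -⟩ | ⟨-, h4⟩
    · exact two_of_degs h1 h4 (by norm_num) (by norm_num) (by norm_num)
    · exact two_of_degs h1 h4 (by norm_num) (by norm_num) (by norm_num)
  · exact two_of_degs h1 h2 (by norm_num) (by norm_num) (by norm_num)
  · rcases fi22 h with ⟨h4, -⟩ | ⟨-, h4⟩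
    · exact two_of_degs h1 h4 (by norm_num) (by norm_num) (by norm_num)
    · exact two_of_degs h1 h4 (by norm_num) (by norm_num) (by norm_num)
  · rcases fi22 h with ⟨h4, -⟩ | ⟨h4, -⟩
    · exact two_of_degs h1 h4 (by norm_num) (by norm_num) (by norm_num)
    · exact two_of_degs h1 h4 (by norm_num) (by norm_num) (by norm_num)
  · rcases fi22 h with ⟨h4, -⟩ | ⟨h4, -⟩
    · exact two_of_degs h2 h4 (by norm_num) (by norm_num) (by norm_num)
    · exact two_of_degs h2 h4 (by norm_num) (by norm_num) (by norm_num)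
  · exact two_of_degs h1 h2 (by norm_num) (by norm_num) (by norm_num)

theorem two_fi22 {S : Type u} [Group S] (h : Cfsg.Spor.IsoFi22 S) {p : ℕ} [hp : Fact p.Prime]
    (hd : p ∣ Nat.card S) : TwoOr p S := Or.inl (fi22_two h hp.out hd)

end Cfsg.Agent.H566.Two
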