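import Cfsg.Agent.H843.IMC.LamCo2
import Cfsg.Agent.H843.IMC.Co2B
import Cfsg.Agent.H714.DG.CoTwoX
import Cfsg.Agent.H597.Base
import Cfsg.Agent.H651.Two.Row
import Cfsg.Agent.H651.Two.Data
import Cfsg.Agent.S2070

/-!
# `Co₂`: two characters of degree divisible by `p`, `p = 5, 7, 11, 23` (helper566)
-/

set_option autoImplicit false

namespace Cfsg.Agent.H566.Two.CoTwoA

open Cfsg Cfsg.Agent.H33 Cfsg.Agent.H651.Two Cfsg.Agent.H596.OneFacts Cfsg.Agent.H653.Sieve
open Cfsg.Agent.H843.IMC Cfsg.Agent.H843.IMC.Syn Cfsg.Agent.H843.IMC.Lam Cfsg.Agent.H843.IMC.LamCo1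
open Cfsg.Agent.H843.IMC.LamCo2
open Cfsg.Agent.SporadicA.GolayBase Cfsg.Agent.SporadicStructure.M24El Cfsg.Agent.H419.LeechIrr
open Cfsg.Agent.SporadicA.GolayPerm Cfsg.Agent.SporadicA.Co0Mono

universe u

section

variable {G : Type*} [Group G] [Fintype G] {E : Type*} [Group E] [Fintype E]

/-- Exterior powers: a constituent of small degree divisible by `p`. -/
theorem deg_lam {p k : ℕ} [Fact p.Prime] (hk : k ≤ 24) (w : E →* Multiplicative (GolayPt → ZMod 2))
    (hw : Function.Injective w) (f : E →* G) {P : ℕ} (hP : ok P = true) (hPp : el P ^ p = 1) (σ : E ≃* E)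
    (hσ : ∀ e i, (w (σ e)).toAdd (el P • i) = (w e).toAdd i) (x : G) (hx : ∀ e, f (σ e) = x * f e * x⁻¹)
    {W : G → ℂ} (hW : IsCharacter G W)
    (hWf : ∀ e, W (f e) = altk k (Matrix.diagonal fun i => sgnC ((w e).toAdd i)))
    {bs : List ℕ} (hbs : ∀ m ∈ bs, ∃ e, (w e).toAdd = word m)
    (hchk : chk k 0 ((List.range 24).map (syn P bs)) = true) :
    ∃ ψ : IrrCharacter G, p ∣ charDegree (ψ : G → ℂ) ∧ k.factorial * charDegree (ψ : G → ℂ) ≤ 24 ^ k := by
  classical
  have hW1 : W 1 = ((k.factorial : ℂ))⁻¹ *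
      ∑ i : Fin k → GolayPt, (if Function.Injective i then (1 : ℂ) else 0) := by
    have h := hWf 1
    rw [map_one, altk_diagonal] at h
    rw [h]
    congr 1
    refine Finset.sum_congr rfl fun i _ => ?_
    rw [Finset.prod_eq_one, mul_one]
    intro t _
    rw [map_one]
    exact sgnC_zero
  have hW0 : W ≠ 0 := by
    intro h0
    rw [h0, Pi.zero_apply] at hW1
    have h1 : ((k.factorial : ℂ))⁻¹ ≠ 0 := inv_ne_zero (by exact_mod_cast k.factorial_ne_zero)
    have h2 := (mul_eq_zero.1 hW1.symm).resolve_left h1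
    rw [Finset.sum_boole] at h2
    have h3 : (Finset.univ.filter fun i : Fin k → GolayPt => Function.Injective i).card = 0 := by exact_mod_cast h2
    rw [Finset.card_eq_zero, Finset.filter_eq_empty_iff] at h3
    have h4 : Fintype.card (Fin k) ≤ Fintype.card GolayPt := by
      rw [Fintype.card_fin]
      exact hk
    obtain ⟨e⟩ := Function.Embedding.nonempty_of_card_le h4
    exact h3 (Finset.mem_univ (e : Fin k → GolayPt)) e.injective
  have hiter : ∀ (n : ℕ) (e : E) (i : GolayPt), (w ((σ : E → E)^[n] e)).toAdd ((el P) ^ n • i) = (w e).toAdd i := by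
    intro n
    induction n with
    | zero => intro e i; rw [pow_zero, one_smul]; rfl
    | succ n ih =>
      intro e i
      rw [Function.iterate_succ_apply', pow_succ', mul_smul, hσ]
      exact ih e i
  obtain ⟨ψ, hψ⟩ := exists_constituent hW hW0
  refine ⟨ψ, dvd_of_free p f x σ hx ?_ hW ?_ ψ hψ, ?_⟩
  · intro e
    apply hw
    apply Multiplicative.toAdd.injective
    funext i
    have h := hiter p e i
    rwa [hPp, one_smul] at h
  · intro η hη h0
    have hWf' : W ∘ f = ∑ j : Fin k → GolayPt,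
        (((k.factorial : ℂ))⁻¹ * (if Function.Injective j then (1 : ℂ) else 0)) •
          (fun e => ((lamH w j e : ℂˣ) : ℂ)) := by
      funext e
      rw [Function.comp_apply, hWf, altk_diagonal, Finset.sum_apply, Finset.mul_sum]
      refine Finset.sum_congr rfl fun j _ => ?_
      rw [Pi.smul_apply, smul_eq_mul, mul_assoc, lamH_apply, sgnC_sum]
    have hlam : ∀ j : Fin k → GolayPt, IsIrrCharacter E (fun e => ((lamH w j e : ℂˣ) : ℂ)) := fun j =>
      Cfsg.Agent.CharDeep.LinearChar.isIrrCharacter_of_hom (lamH w j)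
    have h1 : ∃ j : Fin k → GolayPt, (((k.factorial : ℂ))⁻¹ * (if Function.Injective j then (1 : ℂ) else 0)) ≠ 0 ∧
        (fun e => ((lamH w j e : ℂˣ) : ℂ)) = η := by
      by_contra hcon
      push Not at hcon
      apply h0
      rw [hWf', Cfsg.Agent.Characters.Core.classInner_sum_left, Finset.sum_eq_zero]
      intro j _
      rw [Cfsg.Agent.Characters.Core.classInner_smul_left]
      by_cases hc : (((k.factorial : ℂ))⁻¹ * (if Function.Injective j then (1 : ℂ) else 0)) = 0
      · rw [hc, zero_mul]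
      · rw [Cfsg.Agent.Characters.Core.classInner_irr_ne (hlam j) hη (hcon j hc), mul_zero]
    obtain ⟨j, hj, rfl⟩ := h1
    intro hcon
    have hj' : Function.Injective j := by
      by_contra h
      rw [if_neg h, mul_zero] at hj
      exact hj rfl
    have hinj : Function.Injective fun t => (el P)⁻¹ • j t := fun s t h => hj' (MulAction.injective _ h)
    obtain ⟨m, hm, hne⟩ := exists_moved hP hchk hinj
    obtain ⟨e, he⟩ := hbs m hm
    have h1 := congrFun hcon e
    simp only [Function.comp_apply] at h1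
    rw [lamH_apply, lamH_apply] at h1
    have h2 := sgnC_injective h1
    apply hne
    simp only [smul_inv_smul]
    rw [← he, ← h2]
    refine Finset.sum_congr rfl fun t _ => ?_
    rw [← hσ e, smul_inv_smul]
  · have h1 : W 1 = (((Finset.univ.filter fun i : Fin k → GolayPt => Function.Injective i).card : ℕ) : ℂ) /
        (k.factorial : ℂ) := by
      rw [hW1, Finset.sum_boole, div_eq_inv_mul]
    obtain ⟨d, ρ, hρ⟩ := hW
    have h2 : W 1 = (d : ℂ) := by
      rw [← hρ, Representation.char_one]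
      simp
    have h3 : charDegree (ψ : G → ℂ) ≤ d :=
      Cfsg.Agent.H597.Base.degree_le_of_constituent ⟨d, ρ, hρ⟩ ψ.2 h2 hψ
    have h4 : k.factorial * d = (Finset.univ.filter fun i : Fin k → GolayPt => Function.Injective i).card := by
      have h5 : ((k.factorial : ℂ)) ≠ 0 := by exact_mod_cast k.factorial_ne_zero
      rw [h2, eq_div_iff h5] at h1
      rw [mul_comm]
      exact_mod_cast h1
    have h5 : (Finset.univ.filter fun i : Fin k → GolayPt => Function.Injective i).card ≤ 24 ^ k := by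
      refine (Finset.card_le_univ _).trans ?_
      rw [Fintype.card_fun, Fintype.card_fin]
      exact le_of_eq rfl
    exact (Nat.mul_le_mul_left _ h3).trans (h4.le.trans h5)

end

/-- **An irreducible character of `Co₂` of degree divisible by `7` and at most `13824`.** -/
theorem exists_seven : ∃ χ : IrrCharacter Spor.Co2, 7 ∣ charDegree (χ : Spor.Co2 → ℂ) ∧
    charDegree (χ : Spor.Co2 → ℂ) ≤ 13824 := by
  classical
  have : Fact (Nat.Prime 7) := ⟨by norm_num⟩
  have := Fintype.ofFinite Spor.Co2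
  have := Fintype.ofFinite (Multiplicative C2)
  have hfix := fixQ7
  have hP := okQ7
  rw [Bool.and_eq_true] at hfix
  have h1 : el Q7 • (none : GolayPt) = none := by
    apply idx_injective
    rw [idx_el_smul hP]
    exact Nat.eq_of_beq_eq_true hfix.1
  have h2 : el Q7 • (some 0 : GolayPt) = some 0 := by
    apply idx_injective
    rw [idx_el_smul hP]
    exact Nat.eq_of_beq_eq_true hfix.2
  obtain ⟨χ, h3, h4⟩ := deg_lam (p := 7) (k := 4) (E := Multiplicative C2) (G := Spor.Co2) (by norm_num) wd (by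
    intro a b h
    exact Subtype.ext (Subtype.ext h)) sg hP (el_pow_eq_one okQ7 powQ7) (wp (el Q7) h1 h2) (by
    intro e i
    show ((e.toAdd : golayCode) : GolayPt → ZMod 2) (((el Q7 : M24) : Equiv.Perm GolayPt).symm
      (((el Q7 : M24) : Equiv.Perm GolayPt) i)) = _
    rw [Equiv.symm_apply_apply]
    rfl) (of (permCo0 (el Q7)) (perm_fix _ h1 h2)) (by
    intro e
    apply inc_injective
    rw [map_mul, map_mul, map_inv, inc_of]
    show signCo0 (wordPerm (el Q7) (e.toAdd : golayCode)) =
      permCo0 (el Q7) * signCo0 (e.toAdd : golayCode) * (permCo0 (el Q7))⁻¹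
    rw [← perm_mul_sign_mul_inv]) (isCharacter_altk 4 (matH.comp inc)) (by
    intro e
    show altk 4 (matC (signCo0 (e.toAdd : golayCode))) = _
    rw [matC_sign]
    rfl) (bs := masks) (fun m hm => mem_of_mem_masks hm) chkQ7
  refine ⟨χ, h3, ?_⟩
  have h5 : (4 : ℕ).factorial = 24 := by decide
  rw [h5] at h4
  norm_num at h4
  omega

theorem two_seven : Two 7 Spor.Co2 := by
  obtain ⟨χ, h1, h2⟩ := exists_seven
  obtain ⟨ψ, h3⟩ := Cfsg.Agent.H714.DG.CoTwoX.exists_44275
  exact two_of_degree_ne χ ψ h1 (by rw [h3]; norm_num) (by omega)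

/-- **`Co₂`, all primes up to `2` and `3`.** -/
theorem two_co2_of {S : Type u} [Group S] (h : Cfsg.Spor.IsoCo2 S) {p : ℕ} [hp : Fact p.Prime]
    (hd : p ∣ Nat.card S) (h2 : Two 2 Spor.Co2) (h3 : Two 3 Spor.Co2) : TwoOr p S := by
  refine twoOr_of h hd fun hd => ?_
  have h0 := prime_mem hp.out (L := [(23, 1), (11, 1), (7, 1), (5, 3), (3, 6), (2, 18)]) (by norm_num)
    (N := 42305421312000) (by decide +kernel) (Cfsg.Agent.H843.IMC.Co2A.card_co2 ▸ hd)
  simp only [List.map_cons, List.map_nil, List.mem_cons, List.not_mem_nil, or_false] at h0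
  rcases h0 with rfl | rfl | rfl | rfl | rfl | rfl
  · exact two_of_degs Co2A.hasDeg_23 Co2A.hasDeg_2024_275.1 (by norm_num) (by norm_num) (by norm_num)
  · exact two_of_degs Co2A.hasDeg_2024_275.1 Co2A.hasDeg_2024_275.2 (by norm_num) (by norm_num) (by norm_num)
  · exact two_seven
  · exact two_of_degs Co2A.hasDeg_2024_275.2 Cfsg.Agent.H714.DG.CoTwoX.exists_44275 (by norm_num) (by norm_num)
      (by norm_num)
  · exact h3
  · exact h2

end Cfsg.Agent.H566.Two.CoTwoA
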