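import Cfsg.Agent.BM.Fi22O

/-!
# `Fi₂₂`: the rank three action on the 14080 cosets of `Ω₇(3)` (helper566)

The subgroup `O = ⟨a, b, c, d, e, f, h, i⟩` has orbits of sizes 1, 3159, 10920 on its cosets.
-/

set_option autoImplicit false
set_option maxRecDepth 100000

namespace Cfsg.Agent.H566.Two.FiRank

open Cfsg.Spor Cfsg.Spor.Fi22 Cfsg.Agent.Lib.PermNet Cfsg.Agent.Lib.PermNetOrbit Cfsg.Agent.BM Cfsg.Agent.BM.Fi22O

/-- the two orbits -/
noncomputable def U1 : ℕ := sat (R.nws TO) 10 (2 ^ 1)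
noncomputable def U2 : ℕ := sat (R.nws TO) 10 (2 ^ 13928)

theorem sat1 : Nat.beq (sat (R.nws TO) 10 (2 ^ 1)) U1 = true := by decide +kernel
theorem sat2 : Nat.beq (sat (R.nws TO) 10 (2 ^ 13928)) U2 = true := by decide +kernel
theorem closed1 : closedB (R.nws TO) U1 = true := by decide +kernel
theorem closed2 : closedB (R.nws TO) U2 = true := by decide +kernel
theorem tb1 : tb U1 1 = true := by decide +kernel
theorem tb2 : tb U2 13928 = true := by decide +kernel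
theorem small1 : Nat.beq (Nat.shiftRight U1 (Nat.pow 2 14)) 0 = true := by decide +kernel
theorem small2 : Nat.beq (Nat.shiftRight U2 (Nat.pow 2 14)) 0 = true := by decide +kernel
theorem pc1 : Nat.beq (pc 14 U1) 3159 = true := by decide +kernel
theorem pc2 : Nat.beq (pc 14 U2) 10920 = true := by decide +kernel

theorem orbit_eq' {r p₀ V : ℕ} (hsat : Nat.beq (sat (R.nws TO) r (2 ^ p₀)) V = true)
    (hcl : closedB (R.nws TO) V = true) (hp₀ : tb V p₀ = true) :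
    {p : ℕ | ∃ x ∈ O, φ x p₀ = p} = {p | V.testBit p = true} := by
  refine orbit_closure_eq φ {x | ∃ w ∈ TO, x = R.wd w} (R.nws_ok TO) ?_ ?_ hsat hcl hp₀
  · rintro _ ⟨w, hw, rfl⟩
    exact ⟨R.nw w, List.mem_map.2 ⟨w, hw, rfl⟩, (R.φ_wd w).symm⟩
  · intro v hv
    obtain ⟨w, hw, rfl⟩ := List.mem_map.1 hv
    exact ⟨R.wd w, ⟨w, hw, rfl⟩, (R.φ_wd w).symm⟩

theorem exists_orbits : ∃ q₁ q₂ : Spor.Fi22 ⧸ O, (MulAction.orbit O q₁).ncard = 3159 ∧
    (MulAction.orbit O q₂).ncard = 10920 := by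
  obtain ⟨g₁, h₁⟩ := transitive 1 (by norm_num)
  obtain ⟨g₂, h₂⟩ := transitive 13928 (by norm_num)
  refine ⟨(g₁ : Spor.Fi22 ⧸ O), (g₂ : Spor.Fi22 ⧸ O), ?_, ?_⟩
  · rw [ncard_orbit_quotient O O φ main.2.1, h₁, orbit_eq' sat1 closed1 tb1]
    exact ncard_testBit small1 pc1
  · rw [ncard_orbit_quotient O O φ main.2.1, h₂, orbit_eq' sat2 closed2 tb2]
    exact ncard_testBit small2 pc2

end Cfsg.Agent.H566.Two.FiRank
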